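import Mathlib
import Groth.Agent.FlatMorOne.GenFlatReduced

/-!
# An associated point of a generic fibre spreads to nearby fibres
-/

set_option linter.style.haveILetI false

universe u

open MvPolynomial

namespace Groth.FlatMor2.FibreGenericAss

/-- Over a domain, an ideal of a polynomial ring is finitely generated up to denominators of the
base. -/
theorem exists_finset_generic {A : Type u} [CommRing A] [IsDomain A] {n : ℕ}
    (I : Ideal (MvPolynomial (Fin n) A)) :
    ∃ T : Finset (MvPolynomial (Fin n) A), (T : Set (MvPolynomial (Fin n) A)) ⊆ I ∧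
      ∀ r ∈ I, ∃ ρ : A, ρ ≠ 0 ∧ C ρ * r ∈ Ideal.span (T : Set (MvPolynomial (Fin n) A)) := by
  classical
  letI := MvPolynomial.algebraMvPolynomial (σ := Fin n) (R := A) (S := FractionRing A)
  haveI : IsLocalization ((nonZeroDivisors A).map (C (σ := Fin n)))
      (MvPolynomial (Fin n) (FractionRing A)) :=
    MvPolynomial.isLocalization (nonZeroDivisors A) (FractionRing A)
  set i := algebraMap (MvPolynomial (Fin n) A) (MvPolynomial (Fin n) (FractionRing A)) with hi
  obtain ⟨T, hT, hTspan⟩ := (Submodule.fg_span_iff_fg_span_finset_subset (i '' (I : Set _))).1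
    (IsNoetherian.noetherian (Submodule.span (MvPolynomial (Fin n) (FractionRing A)) (i '' (I : Set _))))
  obtain ⟨T', hT'sub, hT'im⟩ := Finset.subset_set_image_iff.1 hT
  refine ⟨T', hT'sub, fun r hr => ?_⟩
  have h1 : i r ∈ (Ideal.span (T' : Set (MvPolynomial (Fin n) A))).map i := by
    rw [Ideal.map_span, ← Finset.coe_image, hT'im]
    show i r ∈ Submodule.span _ (T : Set (MvPolynomial (Fin n) (FractionRing A)))
    rw [← hTspan]
    exact Submodule.subset_span ⟨r, hr, rfl⟩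
  obtain ⟨⟨⟨e, he⟩, ⟨m, hm⟩⟩, heq⟩ :=
    (IsLocalization.mem_map_algebraMap_iff ((nonZeroDivisors A).map (C (σ := Fin n))) _).1 h1
  obtain ⟨ρ, hρ, rfl⟩ := hm
  rw [hi, ← map_mul] at heq
  obtain ⟨⟨_, ρ', hρ', rfl⟩, hc⟩ :=
    (IsLocalization.eq_iff_exists ((nonZeroDivisors A).map (C (σ := Fin n))) _).1 heq
  refine ⟨ρ' * ρ, mul_ne_zero (nonZeroDivisors.ne_zero hρ') (nonZeroDivisors.ne_zero hρ), ?_⟩
  have : C (ρ' * ρ) * r = C ρ' * e := by
    rw [map_mul, mul_assoc, mul_comm (C ρ) r]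
    exact hc
  rw [this]
  exact Ideal.mul_mem_left _ _ he

/-- An element of a finite module over a polynomial ring whose annihilator at a prime over the
generic point of the base is primary stays nonzero, killed by powers of that prime, on nearby fibres. -/
theorem exists_good_domain {A : Type u} [CommRing A] [IsDomain A] {n : ℕ} {N : Type u}
    [AddCommGroup N] [Module A N] [Module (MvPolynomial (Fin n) A) N]
    [IsScalarTower A (MvPolynomial (Fin n) A) N] [Module.Finite (MvPolynomial (Fin n) A) N]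
    (Q : Ideal (MvPolynomial (Fin n) A)) [Q.IsPrime] (t : N)
    (ht : ∀ c, c • t = 0 → c ∈ Q) (hQt : ∀ r ∈ Q, ∃ m : ℕ, ∃ c, c ∉ Q ∧ (c * r ^ m) • t = 0) :
    ∃ a : A, a ≠ 0 ∧ ∃ t' : N,
      (∀ r ∈ Q, ∃ m k : ℕ, (C a ^ k * r ^ m) • t' = 0) ∧
      ∀ Pr : Ideal (MvPolynomial (Fin n) A), Pr.IsPrime → Q ≤ Pr → C a ∉ Pr → ∀ c, c ∉ Pr →
        c • t' ∉ (Pr.comap (C (σ := Fin n))).map (C (σ := Fin n)) • (⊤ : Submodule (MvPolynomial (Fin n) A) N) := by
  classical
  -- finitely many generators up to denominators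
  obtain ⟨T, hTQ, hTgen⟩ := exists_finset_generic Q
  choose! mT cT hcT hT0 using fun r (hr : r ∈ T) => hQt r (hTQ hr)
  set b := ∏ r ∈ T, cT r with hb
  have hbQ : b ∉ Q := fun h => by
    obtain ⟨r, hr, hr'⟩ := Ideal.IsPrime.prod_mem_iff.1 h
    exact hcT r hr hr'
  set t' := b • t with ht'
  have ht'0 : ∀ c, c • t' = 0 → c ∈ Q := fun c hc => by
    have := ht (c * b) (by rw [mul_smul]; exact hc)
    exact (Ideal.IsPrime.mem_or_mem inferInstance this).resolve_right hbQ
  -- the ideal killing `t'`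
  set J : Ideal (MvPolynomial (Fin n) A) :=
    LinearMap.ker (LinearMap.toSpanSingleton (MvPolynomial (Fin n) A) N t') with hJ
  have hTJ : Ideal.span (T : Set (MvPolynomial (Fin n) A)) ≤ J.radical := by
    refine Ideal.span_le.2 fun r hr => ⟨mT r, ?_⟩
    obtain ⟨d, hd⟩ := Finset.dvd_prod_of_mem cT (Finset.mem_coe.1 hr)
    rw [hJ, LinearMap.mem_ker, LinearMap.toSpanSingleton_apply, ht', ← mul_smul, hb, hd,
      ← mul_assoc, mul_comm (r ^ mT r), mul_comm _ d, mul_smul, hT0 r (Finset.mem_coe.1 hr), smul_zero]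
  let S : Submodule (MvPolynomial (Fin n) A) N := Submodule.span _ {t'}
  obtain ⟨a₁, ha₁, -, hfree₁, -⟩ := FlatMorOne.exists_good_mvPolynomial (R := A) n N (1 : A) one_ne_zero
  obtain ⟨a, ha, ha₁a, hfree₂, -⟩ := FlatMorOne.exists_good_mvPolynomial (R := A) n (N ⧸ S) a₁ ha₁
  have hCsmul : ∀ (c : A) (y : N), c • y = C (σ := Fin n) c • y := fun c y => by
    rw [← MvPolynomial.algebraMap_eq, algebraMap_smul]
  refine ⟨a, ha, t', fun r hr => ?_, fun Pr hPr hQPr haPr c hc hmem => ?_⟩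
  · obtain ⟨ρ, hρ, hρr⟩ := hTgen r hr
    obtain ⟨m, hm⟩ := hTJ hρr
    rw [hJ, LinearMap.mem_ker, LinearMap.toSpanSingleton_apply, mul_pow, mul_smul, ← map_pow,
      ← hCsmul] at hm
    obtain ⟨ι, φ, hker, hsat⟩ := hfree₁.mono ha₁a
    obtain ⟨k, x, hx⟩ := FlatMorOne.mem_satPow.1 (hsat.ge (Submodule.mem_top (x := r ^ m • t')))
    refine ⟨m, k, ?_⟩
    have hx0 : x = 0 := by
      obtain ⟨l, hl⟩ := FlatMorOne.mem_satPow.1 (hker (show ρ ^ m • x ∈ LinearMap.ker φ by
        rw [LinearMap.mem_ker, map_smul, hx, smul_comm, hm, smul_zero]))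
      rw [Submodule.mem_bot, ← mul_smul, smul_eq_zero] at hl
      exact hl.resolve_left (mul_ne_zero (pow_ne_zero _ ha) (pow_ne_zero _ hρ))
    rw [hx0, map_zero, hCsmul, map_pow, ← mul_smul] at hx
    exact hx.symm
  · obtain ⟨ι, φ, hker, hsat⟩ := hfree₂
    choose ψ₀ hψ₀ using fun i : ι => Submodule.mkQ_surjective S (φ (Finsupp.single i 1))
    set ψ := Finsupp.linearCombination A ψ₀ with hψ
    have hψφ : ∀ x, S.mkQ (ψ x) = φ x := by
      have : (S.mkQ.restrictScalars A).comp ψ = φ := by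
        ext i
        simp [hψ, hψ₀ i]
      exact fun x => LinearMap.congr_fun this x
    set q := Pr.comap (C (σ := Fin n)) with hq
    have key : ∀ y ∈ (q • (⊤ : Submodule A N) : Submodule A N), ∃ k : ℕ, ∃ x : ι →₀ A,
        ∃ e ∈ q.map (C (σ := Fin n)), a ^ k • y = ψ x + e • t' := by
      intro y hy
      refine Submodule.smul_induction_on hy (fun s hs y _ => ?_) ?_
      · obtain ⟨k, x, hx⟩ := FlatMorOne.mem_satPow.1 (hsat.ge (Submodule.mem_top (x := S.mkQ y)))
        obtain ⟨d, hd⟩ := Submodule.mem_span_singleton.1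
          ((Submodule.Quotient.eq S).1 (show S.mkQ (a ^ k • y) = S.mkQ (ψ x) by
            rw [hψφ, hx]; exact (S.mkQ.restrictScalars A).map_smul _ _))
        refine ⟨k, s • x, C s * d, Ideal.mul_mem_right _ _ (Ideal.mem_map_of_mem _ hs), ?_⟩
        rw [map_smul, smul_comm, mul_smul, hd, ← hCsmul, smul_sub]
        abel
      · rintro y₁ y₂ ⟨k₁, x₁, e₁, he₁, h₁⟩ ⟨k₂, x₂, e₂, he₂, h₂⟩
        refine ⟨k₁ + k₂, a ^ k₂ • x₁ + a ^ k₁ • x₂, C (a ^ k₂) * e₁ + C (a ^ k₁) * e₂,
          add_mem (Ideal.mul_mem_left _ _ he₁) (Ideal.mul_mem_left _ _ he₂), ?_⟩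
        rw [smul_add, pow_add, mul_smul, mul_smul, h₂, smul_comm (a ^ k₁) (a ^ k₂) y₁, h₁, map_add,
          map_smul, map_smul, add_smul, mul_smul, mul_smul, ← hCsmul, ← hCsmul, smul_add, smul_add]
        abel
    have hmem' : c • t' ∈ (q • (⊤ : Submodule A N) : Submodule A N) := by
      rw [← Submodule.restrictScalars_top A (MvPolynomial (Fin n) A) N, ← Ideal.smul_restrictScalars,
        MvPolynomial.algebraMap_eq]
      exact hmem
    obtain ⟨k, x, e, he, hxe⟩ := key _ hmem'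
    have hx0 : x = 0 := by
      have h0 : φ x = 0 := by
        rw [← hψφ, Submodule.mkQ_apply, Submodule.Quotient.mk_eq_zero]
        rw [show ψ x = a ^ k • c • t' - e • t' from eq_sub_of_add_eq hxe.symm]
        exact S.sub_mem (S.smul_of_tower_mem _ (S.smul_mem _ (Submodule.mem_span_singleton_self _)))
          (S.smul_mem _ (Submodule.mem_span_singleton_self _))
      obtain ⟨l, hl⟩ := FlatMorOne.mem_satPow.1 (hker (LinearMap.mem_ker.2 h0))
      rw [Submodule.mem_bot, smul_eq_zero] at hl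
      exact hl.resolve_left (pow_ne_zero _ ha)
    rw [hx0, map_zero, zero_add, hCsmul, ← sub_eq_zero, ← mul_smul, ← sub_smul] at hxe
    have h1 : C (a ^ k) * c - e ∈ Pr := hQPr (ht'0 _ hxe)
    have h2 : C (a ^ k) * c ∈ Pr := by
      simpa using add_mem h1 (Ideal.map_comap_le he)
    rw [map_pow] at h2
    exact (hPr.mem_or_mem h2).elim (fun h => haPr (hPr.mem_of_pow_mem k h)) hc

/-- The same for a finite module over an algebra of finite type: near a prime over which an element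
is primary in the fibre, it is nonzero and killed by powers of the prime in the fibres. -/
theorem exists_good {R B M : Type u} [CommRing R] [CommRing B] [Algebra R B] [Algebra.FiniteType R B]
    [AddCommGroup M] [Module B M] [Module.Finite B M] (p : Ideal R) [p.IsPrime] (Q : Ideal B)
    [Q.IsPrime] (hQp : Q.comap (algebraMap R B) = p) (t : M)
    (ht : ∀ c, c ∉ Q → c • t ∉ p.map (algebraMap R B) • (⊤ : Submodule B M))
    (hQt : ∀ r ∈ Q, ∃ m : ℕ, ∃ c, c ∉ Q ∧ (c * r ^ m) • t ∈ p.map (algebraMap R B) • (⊤ : Submodule B M)) :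
    ∃ a : R, a ∉ p ∧ ∃ t' : M,
      (∀ r ∈ Q, ∃ m k : ℕ, (algebraMap R B a ^ k * r ^ m) • t' ∈ p.map (algebraMap R B) • (⊤ : Submodule B M)) ∧
      ∀ Pr : Ideal B, Pr.IsPrime → Q ≤ Pr → algebraMap R B a ∉ Pr → ∀ c, c ∉ Pr →
        c • t' ∉ (Pr.comap (algebraMap R B)).map (algebraMap R B) • (⊤ : Submodule B M) := by
  classical
  obtain ⟨n, φ, hφ⟩ := Algebra.FiniteType.iff_quotient_mvPolynomial''.mp ‹Algebra.FiniteType R B›
  set I := p.map (algebraMap R B) with hI
  set N := M ⧸ (I • (⊤ : Submodule B M)) with hN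
  let θ : MvPolynomial (Fin n) (R ⧸ p) →+* B ⧸ I :=
    MvPolynomial.eval₂Hom (Ideal.quotientMap I (algebraMap R B) (Ideal.map_le_iff_le_comap.1 le_rfl))
      fun i => Ideal.Quotient.mk I (φ (X i))
  have hθ : ∀ P : MvPolynomial (Fin n) R,
      θ (MvPolynomial.map (Ideal.Quotient.mk p) P) = Ideal.Quotient.mk I (φ P) := by
    intro P
    have : θ.comp (MvPolynomial.map (Ideal.Quotient.mk p)) = (Ideal.Quotient.mk I).comp φ.toRingHom := by
      refine MvPolynomial.ringHom_ext (fun r => ?_) (fun i => ?_)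
      · simp [θ, Ideal.quotientMap_mk]
      · simp [θ]
    exact RingHom.congr_fun this P
  have hθsurj : Function.Surjective θ := fun y => by
    obtain ⟨b, rfl⟩ := Ideal.Quotient.mk_surjective y
    obtain ⟨P, rfl⟩ := hφ b
    exact ⟨_, hθ P⟩
  letI : Algebra (MvPolynomial (Fin n) (R ⧸ p)) (B ⧸ I) := θ.toAlgebra
  letI : Module (MvPolynomial (Fin n) (R ⧸ p)) N := Module.compHom N θ
  haveI : IsScalarTower (MvPolynomial (Fin n) (R ⧸ p)) (B ⧸ I) N :=
    IsScalarTower.of_compHom _ _ _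
  letI : Module (R ⧸ p) N := Module.compHom N (C : R ⧸ p →+* MvPolynomial (Fin n) (R ⧸ p))
  haveI : IsScalarTower (R ⧸ p) (MvPolynomial (Fin n) (R ⧸ p)) N :=
    IsScalarTower.of_compHom _ _ _
  haveI : Module.Finite (MvPolynomial (Fin n) (R ⧸ p)) N := by
    haveI : Module.Finite (MvPolynomial (Fin n) (R ⧸ p)) (B ⧸ I) :=
      Module.Finite.of_surjective (Algebra.linearMap _ _) hθsurj
    haveI : Module.Finite (B ⧸ I) N := Module.Finite.of_restrictScalars_finite B _ _
    exact Module.Finite.trans (B ⧸ I) N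
  have hsmul : ∀ (P : MvPolynomial (Fin n) (R ⧸ p)) (b : B) (m : M), θ P = Ideal.Quotient.mk I b →
      P • (Submodule.Quotient.mk m : N) = Submodule.Quotient.mk (b • m) := by
    intro P b m h
    show θ P • (Submodule.Quotient.mk m : N) = _
    rw [h]
    rfl
  have hmk0 : ∀ m : M, (Submodule.Quotient.mk m : N) = 0 ↔ m ∈ I • (⊤ : Submodule B M) := fun m =>
    Submodule.Quotient.mk_eq_zero _
  -- the prime upstairs
  have hIQ : I ≤ Q := Ideal.map_le_iff_le_comap.2 hQp.ge
  set Q' := (Q.map (Ideal.Quotient.mk I)).comap θ with hQ'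
  haveI : (Q.map (Ideal.Quotient.mk I)).IsPrime :=
    Ideal.map_isPrime_of_surjective Ideal.Quotient.mk_surjective (by simpa using hIQ)
  have hmemQ : ∀ P b, θ P = Ideal.Quotient.mk I b → (P ∈ Q' ↔ b ∈ Q) := by
    intro P b h
    rw [hQ', Ideal.mem_comap, h, Ideal.mem_quotient_iff_mem hIQ]
  obtain ⟨a', ha', y, hy1, hy2⟩ := exists_good_domain Q' (Submodule.Quotient.mk t : N)
    (fun c hc => by
      obtain ⟨b, hb⟩ := Ideal.Quotient.mk_surjective (θ c)
      rw [hsmul c b t hb.symm, hmk0] at hc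
      rw [hmemQ c b hb.symm]
      by_contra hbQ
      exact ht b hbQ hc)
    (fun r hr => by
      obtain ⟨b, hb⟩ := Ideal.Quotient.mk_surjective (θ r)
      obtain ⟨m, c, hc, hmem⟩ := hQt b ((hmemQ r b hb.symm).1 hr)
      obtain ⟨c', hc'⟩ := hθsurj (Ideal.Quotient.mk I c)
      refine ⟨m, c', fun h => hc ((hmemQ c' c hc').1 h), ?_⟩
      rw [hsmul (c' * r ^ m) (c * b ^ m) t (by rw [map_mul, map_pow, hc', ← hb, map_mul, map_pow]), hmk0]
      exact hmem)
  obtain ⟨a, rfl⟩ := Ideal.Quotient.mk_surjective a'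
  obtain ⟨t', rfl⟩ := Submodule.Quotient.mk_surjective _ y
  have hCa : θ (C (Ideal.Quotient.mk p a)) = Ideal.Quotient.mk I (algebraMap R B a) := by
    simp [θ, Ideal.quotientMap_mk]
  refine ⟨a, fun h => ha' (Ideal.Quotient.eq_zero_iff_mem.2 h), t', fun r hr => ?_,
    fun Pr hPr hQPr haPr c hc hmem => ?_⟩
  · obtain ⟨r', hr'⟩ := hθsurj (Ideal.Quotient.mk I r)
    obtain ⟨m, k, hmk⟩ := hy1 r' ((hmemQ r' r hr').2 hr)
    refine ⟨m, k, ?_⟩
    rwa [hsmul _ (algebraMap R B a ^ k * r ^ m) t' (by rw [map_mul, map_pow, map_pow, hCa, hr', map_mul, map_pow, map_pow]),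
      hmk0] at hmk
  · have hIPr : I ≤ Pr := hIQ.trans hQPr
    haveI : (Pr.map (Ideal.Quotient.mk I)).IsPrime :=
      Ideal.map_isPrime_of_surjective Ideal.Quotient.mk_surjective (by simpa using hIPr)
    have hmemPr : ∀ P b, θ P = Ideal.Quotient.mk I b →
        (P ∈ (Pr.map (Ideal.Quotient.mk I)).comap θ ↔ b ∈ Pr) := by
      intro P b h
      rw [Ideal.mem_comap, h, Ideal.mem_quotient_iff_mem hIPr]
    obtain ⟨c', hc'⟩ := hθsurj (Ideal.Quotient.mk I c)
    refine hy2 ((Pr.map (Ideal.Quotient.mk I)).comap θ) inferInstance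
      (Ideal.comap_mono (Ideal.map_mono hQPr)) (fun h => haPr ((hmemPr _ _ hCa).1 h)) c'
      (fun h => hc ((hmemPr c' c hc').1 h)) ?_
    rw [hsmul c' c t' hc']
    -- transport of `q • ⊤`
    refine Submodule.smul_induction_on hmem (fun s hs m _ => ?_) (fun u v hu hv => ?_)
    · refine Submodule.span_induction (p := fun s _ => ∀ m : M, (Submodule.Quotient.mk (s • m) : N) ∈ _)
        ?_ ?_ ?_ ?_ hs m
      · rintro _ ⟨q, hq, rfl⟩ m
        rw [← hsmul (C (Ideal.Quotient.mk p q)) (algebraMap R B q) m (by simp [θ, Ideal.quotientMap_mk])]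
        refine Submodule.smul_mem_smul (Ideal.mem_map_of_mem _ ?_) trivial
        show C (Ideal.Quotient.mk p q) ∈ (Pr.map (Ideal.Quotient.mk I)).comap θ
        exact (hmemPr _ _ (by simp [θ, Ideal.quotientMap_mk])).2 hq
      · intro m
        rw [zero_smul, Submodule.Quotient.mk_zero]
        exact zero_mem _
      · intro u v _ _ hu hv m
        rw [add_smul, Submodule.Quotient.mk_add]
        exact add_mem (hu m) (hv m)
      · intro b u _ hu m
        rw [smul_eq_mul, mul_comm, mul_smul]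
        exact hu (b • m)
    · rw [Submodule.Quotient.mk_add]
      exact add_mem hu hv

end Groth.FlatMor2.FibreGenericAss
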