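import Groth.Agent.FlatMor2.FibreGenericAss.Algebra
import Groth.Agent.Flatmor4.FibreAss
import Groth.Agent.QCohMod.SupportPullback
import Groth.Prelude.Def_MoreMor

/-!
# Generic points of fibres in the relative assassin near an associated point
-/

set_option linter.style.haveILetI false

universe u

open CategoryTheory CategoryTheory.Limits AlgebraicGeometry TopologicalSpace Topology IsLocalRing

namespace Groth.FlatMor2.FibreGenericAss

/-- Membership in the localization of `I • M`. -/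
theorem mem_map_smul_top_iff {B Bp M Mp : Type u} [CommRing B] [CommRing Bp] [Algebra B Bp]
    (P : Ideal B) [P.IsPrime] [IsLocalization.AtPrime Bp P] [AddCommGroup M] [Module B M]
    [AddCommGroup Mp] [Module B Mp] [Module Bp Mp] [IsScalarTower B Bp Mp] (g : M →ₗ[B] Mp)
    [IsLocalizedModule P.primeCompl g] (I : Ideal B) (t : M) :
    g t ∈ I.map (algebraMap B Bp) • (⊤ : Submodule Bp Mp) ↔
      ∃ c ∉ P, c • t ∈ I • (⊤ : Submodule B M) := by
  constructor
  · intro h
    have key : ∀ z ∈ I.map (algebraMap B Bp) • (⊤ : Submodule Bp Mp),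
        ∃ c ∉ P, ∃ m ∈ I • (⊤ : Submodule B M), c • z = g m := by
      intro z hz
      refine Submodule.smul_induction_on hz (fun s hs y _ => ?_) ?_
      · obtain ⟨⟨i, c₁⟩, h₁⟩ := (IsLocalization.mem_map_algebraMap_iff P.primeCompl Bp).1 hs
        obtain ⟨⟨m, c₂⟩, h₂⟩ := IsLocalizedModule.surj P.primeCompl g y
        refine ⟨c₁ * c₂, mul_mem c₁.2 c₂.2, i.1 • m,
          Submodule.smul_mem_smul i.2 Submodule.mem_top, ?_⟩
        rw [map_smul, ← algebraMap_smul Bp i.1 (g m), ← h₁, ← h₂, Submonoid.smul_def,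
          ← algebraMap_smul Bp (c₁.1 * c₂.1) (s • y), ← algebraMap_smul Bp c₂.1 y,
          smul_smul, smul_smul, map_mul]
        congr 1
        ring
      · rintro a b ⟨c, hc, m, hm, e⟩ ⟨c', hc', m', hm', e'⟩
        refine ⟨c * c', mul_mem (show c ∈ P.primeCompl from hc) (show c' ∈ P.primeCompl from hc'),
          c' • m + c • m',
          add_mem (Submodule.smul_mem _ _ hm) (Submodule.smul_mem _ _ hm'), ?_⟩
        rw [map_add, map_smul, map_smul, ← e, ← e', smul_add, smul_smul, smul_smul, mul_comm c c']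
    obtain ⟨c, hc, m, hm, e⟩ := key _ h
    rw [← map_smul] at e
    obtain ⟨⟨d, hd⟩, hd'⟩ := IsLocalizedModule.exists_of_eq (S := P.primeCompl) e
    refine ⟨d * c, mul_mem hd (show c ∈ P.primeCompl from hc), ?_⟩
    rw [mul_smul]
    exact (show d • c • t = d • m from hd') ▸ Submodule.smul_mem _ d hm
  · rintro ⟨c, hc, hmem⟩
    have h1 : ∀ m ∈ I • (⊤ : Submodule B M), g m ∈ I.map (algebraMap B Bp) • (⊤ : Submodule Bp Mp) := by
      intro m hm
      refine Submodule.smul_induction_on hm (fun i hi y _ => ?_) fun a b ha hb => ?_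
      · rw [map_smul, ← algebraMap_smul Bp i (g y)]
        exact Submodule.smul_mem_smul (Ideal.mem_map_of_mem _ hi) Submodule.mem_top
      · rw [map_add]; exact add_mem ha hb
    have h2 := h1 _ hmem
    rw [map_smul, ← algebraMap_smul Bp c (g t)] at h2
    exact (Submodule.smul_mem_iff_of_isUnit _ (IsLocalization.map_units Bp (⟨c, hc⟩ : P.primeCompl))).1 h2

/-- The closed point is associated to a nonzero element killed up to powers by an ideal of
definition, the quotient ring being Noetherian. -/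
theorem isAssociatedPrime_of_primary {B N : Type u} [CommRing B] [IsLocalRing B] [AddCommGroup N]
    [Module B N] (J : Ideal B) [IsNoetherianRing (B ⧸ J)] [Module (B ⧸ J) N]
    [IsScalarTower B (B ⧸ J) N] (τ : N) (hτ : τ ≠ 0) (I : Ideal B)
    (hI : ∀ b ∈ I, ∃ m : ℕ, b ^ m • τ = 0)
    (hmax : ∀ P : Ideal B, P.IsPrime → I ≤ P → J ≤ P → P = maximalIdeal B) :
    IsAssociatedPrime (maximalIdeal B) N := by
  obtain ⟨P, hP, hle⟩ := exists_le_isAssociatedPrime_of_isNoetherianRing (B ⧸ J) τ hτ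
  have h := (Groth.Flatmor4.isAssociatedPrime_iff_of_surjective (B := B) (K := B ⧸ J) (N := N)
    Ideal.Quotient.mk_surjective P).2 hP
  rwa [hmax (P.comap (algebraMap B (B ⧸ J))) h.1 (fun b hb => ?_) (fun b hb => ?_)] at h
  · obtain ⟨m, hm⟩ := hI b hb
    refine hP.1.mem_of_pow_mem m ?_
    rw [← map_pow]
    refine hle ?_
    rw [Submodule.mem_colon_singleton, Submodule.mem_bot, algebraMap_smul]
    exact hm
  · rw [Ideal.mem_comap, Ideal.Quotient.algebraMap_eq, Ideal.Quotient.eq_zero_iff_mem.2 hb]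
    exact zero_mem _

/-- Near a point of the relative assassin, the generic points of the fibres of its closure lie in
the relative assassin. -/
theorem exists_nhd {X S : Scheme.{u}} (f : X ⟶ S) [LocallyOfFiniteType f]
    (F : X.Modules) (hF : Coh.IsCoh F) (ξ : X) (hξ : ξ ∈ MoreMor.relAss f F) :
    ∃ V : Set X, V ⊆ closure {ξ} ∧ IsOpen (Subtype.val ⁻¹' V : Set ↑(closure ({ξ} : Set X))) ∧
      V.Nonempty ∧ ∀ (x : X) (hx : x ∈ V), (∃ C ∈ irreducibleComponents ↑(V ∩ f ⁻¹' {f x}),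
        IsGenericPoint (⟨x, hx, rfl⟩ : ↑(V ∩ f ⁻¹' {f x})) C) → x ∈ MoreMor.relAss f F := by
  haveI := hF.1
  obtain ⟨O, hO, hsO, -⟩ := exists_isAffineOpen_mem_and_subset (U := (⊤ : S.Opens)) (x := f ξ) trivial
  obtain ⟨W, hW, hξW, hWO⟩ := exists_isAffineOpen_mem_and_subset (U := f ⁻¹ᵁ O) (x := ξ) hsO
  have e : W ≤ f ⁻¹ᵁ O := hWO
  letI algRB : Algebra Γ(S, O) Γ(X, W) := (f.appLE O W e).hom.toAlgebra
  haveI : Algebra.FiniteType Γ(S, O) Γ(X, W) := f.finiteType_appLE hO hW e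
  haveI : Module.Finite Γ(X, W) Γ(F, W) := Groth.QCohMod.finite_sections F hF.2 hW
  have hcomap : ∀ x (hx : x ∈ W),
      (hW.primeIdealOf ⟨x, hx⟩).asIdeal.comap (algebraMap Γ(S, O) Γ(X, W)) =
        (hO.primeIdealOf ⟨f x, e hx⟩).asIdeal :=
    fun x hx => congrArg PrimeSpectrum.asIdeal (IsAffineOpen.comap_primeIdealOf_appLE O hO W hW e hx)
  -- the submodule of the stalk in terms of sections
  have hstalk : ∀ x (hx : x ∈ W) (t : Γ(F, W)),
      Groth.QCohMod.germ F x hx t ∈ Ideal.map (f.stalkMap x).hom (maximalIdeal (S.presheaf.stalk (f x))) •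
          (⊤ : Submodule (X.presheaf.stalk x) (F.presheaf.stalk x)) ↔
        ∃ c ∉ (hW.primeIdealOf ⟨x, hx⟩).asIdeal, c • t ∈
          (hO.primeIdealOf ⟨f x, e hx⟩).asIdeal.map (algebraMap Γ(S, O) Γ(X, W)) •
            (⊤ : Submodule Γ(X, W) Γ(F, W)) := by
    intro x hx t
    letI := Groth.QCohMod.stalkModule F x hx
    letI : Algebra Γ(X, W) (X.presheaf.stalk x) :=
      TopCat.Presheaf.algebra_section_stalk X.presheaf ⟨x, hx⟩
    haveI : IsLocalization.AtPrime (X.presheaf.stalk x) (hW.primeIdealOf ⟨x, hx⟩).asIdeal :=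
      hW.isLocalization_stalk ⟨x, hx⟩
    letI : Algebra Γ(S, O) (S.presheaf.stalk (f x)) :=
      TopCat.Presheaf.algebra_section_stalk S.presheaf ⟨f x, e hx⟩
    haveI : IsLocalization.AtPrime (S.presheaf.stalk (f x)) (hO.primeIdealOf ⟨f x, e hx⟩).asIdeal :=
      hO.isLocalization_stalk ⟨f x, e hx⟩
    haveI : IsScalarTower Γ(X, W) (X.presheaf.stalk x) (F.presheaf.stalk x) :=
      IsScalarTower.of_compHom _ _ _
    haveI := Groth.QCohMod.isLocalizedModule_germ F hW x hx
    have hJ : Ideal.map (f.stalkMap x).hom (maximalIdeal (S.presheaf.stalk (f x))) =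
        ((hO.primeIdealOf ⟨f x, e hx⟩).asIdeal.map (algebraMap Γ(S, O) Γ(X, W))).map
          (algebraMap Γ(X, W) (X.presheaf.stalk x)) := by
      rw [← IsLocalization.AtPrime.map_eq_maximalIdeal (hO.primeIdealOf ⟨f x, e hx⟩).asIdeal
        (S.presheaf.stalk (f x)), Ideal.map_map, Ideal.map_map]
      congr 1
      refine RingHom.ext fun r => ?_
      show f.stalkMap x (S.presheaf.germ O (f x) (e hx) r) = X.presheaf.germ W x hx (f.appLE O W e r)
      rw [Scheme.Hom.germ_stalkMap_apply, Scheme.Hom.appLE]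
      exact (TopCat.Presheaf.germ_res_apply X.presheaf (homOfLE e) x hx _).symm
    rw [hJ]
    exact mem_map_smul_top_iff (hW.primeIdealOf ⟨x, hx⟩).asIdeal (Groth.QCohMod.germₗ F x hx) _ t
  -- a section giving an associated element at `ξ`
  set Q := (hW.primeIdealOf ⟨ξ, hξW⟩).asIdeal with hQ
  set p := (hO.primeIdealOf ⟨f ξ, e hξW⟩).asIdeal with hp
  obtain ⟨hprime, z, hz⟩ := hξ
  obtain ⟨y, rfl⟩ := Submodule.Quotient.mk_surjective _ z
  obtain ⟨a₀, t, ha₀, hat⟩ := Groth.QCohMod.exists_smul_germ_eq F hW ξ hξW y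
  have hu : IsUnit (X.presheaf.germ W ξ hξW a₀) := (Scheme.mem_basicOpen X a₀ ξ hξW).1 ha₀
  have ht : ∀ c, c ∉ Q → c • t ∉ p.map (algebraMap Γ(S, O) Γ(X, W)) • (⊤ : Submodule Γ(X, W) Γ(F, W)) := by
    intro c hc hmem
    have h1 := (hstalk ξ hξW t).2 ⟨c, hc, hmem⟩
    rw [← hat, Submodule.smul_mem_iff_of_isUnit _ hu] at h1
    rw [(Submodule.Quotient.mk_eq_zero _).2 h1] at hz
    exact hprime.ne_top (by rw [hz, Ideal.radical_eq_top]; ext; simp)
  have hQt : ∀ r ∈ Q, ∃ m : ℕ, ∃ c, c ∉ Q ∧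
      (c * r ^ m) • t ∈ p.map (algebraMap Γ(S, O) Γ(X, W)) • (⊤ : Submodule Γ(X, W) Γ(F, W)) := by
    intro r hr
    have h1 : X.presheaf.germ W ξ hξW r ∈ maximalIdeal (X.presheaf.stalk ξ) := fun hur =>
      (Groth.QCohMod.mem_basicOpen_iff_notMem_primeIdealOf hW r ξ hξW).1
        ((Scheme.mem_basicOpen X r ξ hξW).2 hur) hr
    rw [hz] at h1
    obtain ⟨m, hm⟩ := h1
    rw [Submodule.mem_colon_singleton, Submodule.mem_bot, ← Submodule.Quotient.mk_smul,
      Submodule.Quotient.mk_eq_zero, ← Submodule.smul_mem_iff_of_isUnit _ hu, smul_comm, hat,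
      ← map_pow, ← Groth.QCohMod.germ_smul] at hm
    obtain ⟨c, hc, hmem⟩ := (hstalk ξ hξW _).1 hm
    exact ⟨m, c, hc, by rwa [mul_smul]⟩
  obtain ⟨a, ha, t', ht'1, ht'2⟩ := exists_good p Q (hcomap ξ hξW) t ht hQt
  refine ⟨closure {ξ} ∩ ((W : Set X) ∩ f ⁻¹' (S.basicOpen a : Set S)), Set.inter_subset_left,
    ?_, ⟨ξ, subset_closure rfl, hξW,
      (Groth.QCohMod.mem_basicOpen_iff_notMem_primeIdealOf hO a (f ξ) (e hξW)).2 ha⟩, ?_⟩
  · convert (W.isOpen.inter ((S.basicOpen a).isOpen.preimage f.continuous)).preimage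
      (continuous_subtype_val (p := fun y => y ∈ closure ({ξ} : Set X))) using 1
    ext y
    exact ⟨fun h => h.2, fun h => ⟨y.2, h⟩⟩
  rintro x hxV ⟨C, hC, hgen⟩
  have hspec : ξ ⤳ x := specializes_iff_mem_closure.2 hxV.1
  have hxW : x ∈ W := hxV.2.1
  set Px := (hW.primeIdealOf ⟨x, hxW⟩).asIdeal with hPx
  set q := (hO.primeIdealOf ⟨f x, e hxW⟩).asIdeal with hq
  have hQPx : Q ≤ Px := fun b hb => by
    by_contra hb'
    exact (Groth.QCohMod.mem_basicOpen_iff_notMem_primeIdealOf hW b ξ hξW).1 (hspec.mem_open (X.basicOpen b).isOpen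
      ((Groth.QCohMod.mem_basicOpen_iff_notMem_primeIdealOf hW b x hxW).2 hb')) hb
  have hpq : p ≤ q := by
    rw [hp, hq, ← hcomap ξ hξW, ← hcomap x hxW]
    exact Ideal.comap_mono hQPx
  have haq : a ∉ q :=
    (Groth.QCohMod.mem_basicOpen_iff_notMem_primeIdealOf hO a (f x) (e hxW)).1 hxV.2.2
  have haPx : algebraMap Γ(S, O) Γ(X, W) a ∉ Px := fun h => haq (by rw [hq, ← hcomap x hxW]; exact h)
  -- the element at `x`
  set J := Ideal.map (f.stalkMap x).hom (maximalIdeal (S.presheaf.stalk (f x))) with hJdef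
  haveI : IsNoetherianRing (X.presheaf.stalk x ⧸ J) :=
    Groth.Flatmor4.isNoetherianRing_of_fibre_presentation f x (Ideal.Quotient.mk J)
      Ideal.Quotient.mk_surjective Ideal.mk_ker
  show IsAssociatedPrime (maximalIdeal (X.presheaf.stalk x))
    (F.presheaf.stalk x ⧸ J • (⊤ : Submodule (X.presheaf.stalk x) (F.presheaf.stalk x)))
  haveI : IsScalarTower (X.presheaf.stalk x) (X.presheaf.stalk x ⧸ J)
      (F.presheaf.stalk x ⧸ J • (⊤ : Submodule (X.presheaf.stalk x) (F.presheaf.stalk x))) :=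
    IsScalarTower.of_algebraMap_smul fun r z => by
      obtain ⟨z, rfl⟩ := Submodule.Quotient.mk_surjective _ z
      rfl
  refine isAssociatedPrime_of_primary J (Submodule.Quotient.mk (Groth.QCohMod.germ F x hxW t')) ?_
    (Q.map (X.presheaf.germ W x hxW).hom) ?_ ?_
  · rw [Ne, Submodule.Quotient.mk_eq_zero, hstalk x hxW t']
    rintro ⟨c, hc, hmem⟩
    refine ht'2 Px (hW.primeIdealOf ⟨x, hxW⟩).isPrime hQPx haPx c hc ?_
    rwa [hcomap x hxW]
  · have hrad : Q.map (X.presheaf.germ W x hxW).hom ≤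
        Ideal.radical (LinearMap.ker (LinearMap.toSpanSingleton (X.presheaf.stalk x) _
          (Submodule.Quotient.mk (Groth.QCohMod.germ F x hxW t') :
            F.presheaf.stalk x ⧸ J • (⊤ : Submodule (X.presheaf.stalk x) (F.presheaf.stalk x))))) := by
      refine Ideal.map_le_iff_le_comap.2 fun r hr => ?_
      obtain ⟨m, k, hmk⟩ := ht'1 r hr
      refine ⟨m, ?_⟩
      rw [LinearMap.mem_ker, LinearMap.toSpanSingleton_apply, ← Submodule.Quotient.mk_smul,
        Submodule.Quotient.mk_eq_zero, ← map_pow, ← Groth.QCohMod.germ_smul, hstalk x hxW]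
      refine ⟨algebraMap Γ(S, O) Γ(X, W) a ^ k,
        fun h => haPx ((hW.primeIdealOf ⟨x, hxW⟩).isPrime.mem_of_pow_mem k h), ?_⟩
      rw [← mul_smul]
      exact Submodule.smul_mono_left (Ideal.map_mono hpq) hmk
    exact fun b hb => hrad hb
  · intro P hP hQP hJP
    -- no point of the closure in the fibre lies strictly above `x`
    letI : Algebra Γ(X, W) (X.presheaf.stalk x) :=
      TopCat.Presheaf.algebra_section_stalk X.presheaf ⟨x, hxW⟩
    haveI : IsLocalization.AtPrime (X.presheaf.stalk x) Px := hW.isLocalization_stalk ⟨x, hxW⟩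
    set x' := (X.fromSpecStalk x) ⟨P, hP⟩ with hx'
    have hsp : x' ⤳ x := (Scheme.range_fromSpecStalk (x := x)).le ⟨⟨P, hP⟩, rfl⟩
    have hfx' : f x' = f x := (Groth.Flatmor4.apply_fromSpecStalk_eq_iff f x ⟨P, hP⟩).2 hJP
    have hx'W : x' ∈ W := hsp.mem_open W.isOpen hxW
    have hx'spec : x' = hW.fromSpec ⟨P.comap (algebraMap Γ(X, W) (X.presheaf.stalk x)), inferInstance⟩ := by
      rw [hx', ← IsAffineOpen.fromSpecStalk_eq_fromSpecStalk hW hxW]
      rfl
    have hξx' : ξ ⤳ x' := by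
      have h : hW.fromSpec (hW.primeIdealOf ⟨ξ, hξW⟩) ⤳ x' := by
        rw [hx'spec]
        refine Specializes.map ?_ hW.fromSpec.continuous
        exact (PrimeSpectrum.le_iff_specializes (hW.primeIdealOf ⟨ξ, hξW⟩) _).1
          (fun b hb => hQP (Ideal.mem_map_of_mem _ hb))
      rwa [hW.fromSpec_primeIdealOf] at h
    have hx'V : x' ∈ closure {ξ} ∩ ((W : Set X) ∩ f ⁻¹' (S.basicOpen a : Set S)) :=
      ⟨specializes_iff_mem_closure.1 hξx', hx'W, by rw [Set.mem_preimage, hfx']; exact hxV.2.2⟩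
    let x₁ : ↑((closure {ξ} ∩ ((W : Set X) ∩ f ⁻¹' (S.basicOpen a : Set S))) ∩ f ⁻¹' {f x}) :=
      ⟨x', hx'V, hfx'⟩
    let x₀ : ↑((closure {ξ} ∩ ((W : Set X) ∩ f ⁻¹' (S.basicOpen a : Set S))) ∩ f ⁻¹' {f x}) :=
      ⟨x, hxV, rfl⟩
    have h₁₀ : x₁ ⤳ x₀ := (subtype_specializes_iff _ _).2 hsp
    have hC₁ : C ⊆ closure {x₁} := by
      rw [← hgen.def]
      exact specializes_iff_closure_subset.1 h₁₀
    have h₀₁ : x₀ ⤳ x₁ := by
      rw [specializes_iff_mem_closure, hgen.def]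
      exact hC.2 isIrreducible_singleton.closure hC₁ (subset_closure rfl)
    have hxx' : x' = x := congrArg Subtype.val (h₁₀.antisymm h₀₁).eq
    have := (X.fromSpecStalk x).isEmbedding.injective
      ((hx'.symm.trans hxx').trans X.fromSpecStalk_closedPoint.symm)
    exact congrArg PrimeSpectrum.asIdeal this

end Groth.FlatMor2.FibreGenericAss
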